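import Cfsg.Agent.H6.HNR.G.Main

set_option autoImplicit false
set_option maxRecDepth 100000
set_option Elab.async false

namespace Cfsg.H6.HNR.R

open G

def aS : List Std := [(0, [], [7,3,3,3,6]), (22, [7,7], [6,3,3,3,7]), (186, [4,6,5,4], [6,4,5,3,3,3,5,3,7]), (44, [3,7,3], [4,6,4,7,3,3,3,6,3,7,3]), (63, [6,3,6], [7,4,7,7,3,3,3,6,6,3,6])]

def aR : List (List ℕ) := [[0,1,0,1], [1,2,1,2,1,2], [0,2,0,2], [1,3,1,3,1,3], [2,3,2,3,2,3], [0,3,0,3], [1,4,1,4,1,4], [4,2,0,3,1,4,2,0,3,1,4,2,0,3,1,4,2,0,3,1,4,2,0,3,1], [2,4,2,4,2,4], [0,4,0,4]]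

def aN : List (List ℕ) := [[0,1], [1,2,1,2], [1,3,1,3], [2,3,2,3], [1,4,1,4], [2,4,2,4], [3,4,3,4]]

theorem ahS : aS.all (stdChk img 8 434321399574757888 bs jw) = true := by decide +kernel

theorem ab0 : Br ev jw aS 5 aR aN [(0, [], [7,3,3,3,6]), (22, [7,7], [6,3,3,3,7]), (186, [4,6,5,4], [6,4,5,3,3,3,5,3,7]), (44, [3,7,3], [4,6,4,7,3,3,3,6,3,7,3])] :=
  tm.br (L := [(63, [6,3,6], [7,4,7,7,3,3,3,6,6,3,6])]) (s := ⟨[0], [1,2,3], [], [], unp 0 (nat_lit 0x0), [(90, [1,4,5,6], [1,4,1,4,1,4], 51), (55, [4,6,3], [1,4,1,4,1,4], 51), (109, [1,7,5,3], [1,4,1,4,1,4], 51), (279, [1,4,5,3,6], [1,4,1,4,1,4], 51), (58, [4,7,3], [1,4,1,4,1,4], 51), (182, [4,6,3,5], [1,4,1,4,1,4], 51), (326, [1,7,3,5,3], [1,4,1,4,1,4], 51), (475, [3,7,7,3,3], [1,4,1,4,1,4], 51), (163,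 [4,4,6,6], [1,4,1,4,1,4], 51), (194, [4,7,3,5], [1,4,1,4,1,4], 51), (254, [1,3,3,7,7], [1,4,1,4,1,4], 51), (354, [1,7,5,7,3], [1,4,1,4,1,4], 51), (501, [4,4,6,3,6], [1,4,1,4,1,4], 51), (597, [4,7,3,3,7], [1,4,1,4,1,4], 51), (687, [6,6,3,7,7], [1,4,1,4,1,4], 51), (734, [1,3,3,7,7,5], [1,4,1,4,1,4], 51), (827, [1,6,3,5,7,4], [1,4,1,4,1,4], 51), (1159, [3,6,3,7,5,4], [1,4,1,4,1,4], 51), (1410, [4,5,3,6,6,5], [1,4,1,4,1,4], 51), (1497, [4,6,3,3,5,4], [1,4,1,4,1,4], 51), (1518, [4,6,5,3,5,3], [1,4,1,4,1,4], 51), (1537, [4,6,5,6,5,3], [1,4,1,4,1,4], 51), (1736, [6,6,3,5,7,7], [1,4,1,4,1,4], 51), (2655, [3,6,3,5,7,4,4], [1,4,1,4,1,4], 51), (3733, [1,3,5,3,6,6,5,4], [1,4,1,4,1,4], 51), (1196, [3,6,6,3,6,6], [1,4,1,4,1,4], 51), (1339, [4,4,6,3,6,5], [1,4,1,4,1,4],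 51), (1486, [4,5,7,5,7,3], [1,4,1,4,1,4], 51), (1704, [6,5,6,3,7,7], [1,4,1,4,1,4], 51), (1789, [1,3,3,6,3,3,3], [1,4,1,4,1,4], 51), (2034, [1,6,4,4,7,5,7], [1,4,1,4,1,4], 51), (2416, [3,3,3,5,7,7,4], [1,4,1,4,1,4], 51), (2878, [4,4,5,3,5,6,3], [1,4,1,4,1,4], 51), (3211, [4,5,7,5,7,3,5], [1,4,1,4,1,4], 51), (3519, [6,5,6,3,5,7,7], [1,4,1,4,1,4], 51), (3560, [6,5,6,6,5,6,4], [1,4,1,4,1,4], 51), (4048, [1,7,3,5,3,3,5,4], [1,4,1,4,1,4], 51), (4770, [4,4,5,3,5,6,6,3], [1,4,1,4,1,4], 51), (4875, [4,4,7,5,4,5,3,3], [1,4,1,4,1,4], 51), (5266, [7,5,4,4,7,4,6,3], [1,4,1,4,1,4], 51), (2612, [3,3,7,4,5,7,7], [1,4,1,4,1,4], 51), (2708, [3,6,6,3,6,6,5], [1,4,1,4,1,4], 51), (2717, [3,6,6,5,3,6,6], [1,4,1,4,1,4], 51), (3034, [4,4,7,7,5,7,7], [1,4,1,4,1,4], 51), (3530,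 [6,5,6,3,7,7,5], [1,4,1,4,1,4], 51), (3993, [1,6,6,5,3,7,5,7], [1,4,1,4,1,4], 51), (4641, [3,6,5,6,6,3,7,4], [1,4,1,4,1,4], 51), (5052, [4,6,3,6,6,5,7,7], [1,4,1,4,1,4], 51), (5059, [4,6,5,3,3,7,4,7], [1,4,1,4,1,4], 51), (5427, [1,6,6,5,3,3,7,3,6], [1,4,1,4,1,4], 51), (5519, [1,7,5,3,6,6,5,7,7], [1,4,1,4,1,4], 51), (5611, [3,3,5,6,3,3,3,5,6], [1,4,1,4,1,4], 51), (527, [4,5,3,5,7], [4,2,0,3,1,4,2,0,3,1,4,2,0,3,1,4,2,0,3,1,4,2,0,3,1], 51), (705, [7,5,4,4,7], [4,2,0,3,1,4,2,0,3,1,4,2,0,3,1,4,2,0,3,1,4,2,0,3,1], 51), (423, [3,6,3,7,4], [4,2,0,3,1,4,2,0,3,1,4,2,0,3,1,4,2,0,3,1,4,2,0,3,1], 51), (1778, [7,5,4,4,7,5], [4,2,0,3,1,4,2,0,3,1,4,2,0,3,1,4,2,0,3,1,4,2,0,3,1], 51), (693, [6,6,4,7,7], [4,2,0,3,1,4,2,0,3,1,4,2,0,3,1,4,2,0,3,1,4,2,0,3,1], 51), (1091, [3,3,6,3,6,4],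 [4,2,0,3,1,4,2,0,3,1,4,2,0,3,1,4,2,0,3,1,4,2,0,3,1], 51), (1322, [4,4,5,6,3,6], [4,2,0,3,1,4,2,0,3,1,4,2,0,3,1,4,2,0,3,1,4,2,0,3,1], 51), (1432, [4,5,4,5,7,3], [4,2,0,3,1,4,2,0,3,1,4,2,0,3,1,4,2,0,3,1,4,2,0,3,1], 51), (1752, [6,6,4,5,7,7], [4,2,0,3,1,4,2,0,3,1,4,2,0,3,1,4,2,0,3,1,4,2,0,3,1], 51), (1756, [6,6,4,7,7,5], [4,2,0,3,1,4,2,0,3,1,4,2,0,3,1,4,2,0,3,1,4,2,0,3,1], 51), (1945, [1,3,7,4,6,5,3], [4,2,0,3,1,4,2,0,3,1,4,2,0,3,1,4,2,0,3,1,4,2,0,3,1], 51), (2384, [3,3,3,5,3,6,6], [4,2,0,3,1,4,2,0,3,1,4,2,0,3,1,4,2,0,3,1,4,2,0,3,1], 51), (3214, [4,5,7,5,7,7,3], [4,2,0,3,1,4,2,0,3,1,4,2,0,3,1,4,2,0,3,1,4,2,0,3,1], 51), (5641, [3,3,7,5,4,5,4,5,7], [4,2,0,3,1,4,2,0,3,1,4,2,0,3,1,4,2,0,3,1,4,2,0,3,1], 51), (3593, [6,6,4,5,4,7,7], [2,4,2,4,2,4], 51)]⟩) (by decide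 +kernel)
    (List.forall_mem_cons.mpr ⟨Br.done (by decide +kernel), (by simp)⟩)

theorem ab1 : Br ev jw aS 5 aR aN [(0, [], [7,3,3,3,6]), (22, [7,7], [6,3,3,3,7]), (186, [4,6,5,4], [6,4,5,3,3,3,5,3,7]), (705, [7,5,4,4,7], [6,3,3,5,3,3,3,5,4,4,7])] :=
  tm.br (L := []) (s := ⟨[0], [1,2,3], [], [], unp 0 (nat_lit 0x0), [(55, [4,6,3], [1,4,1,4,1,4], 51), (109, [1,7,5,3], [1,4,1,4,1,4], 51), (279, [1,4,5,3,6], [1,4,1,4,1,4], 51), (44, [3,7,3], [4,2,0,3,1,4,2,0,3,1,4,2,0,3,1,4,2,0,3,1,4,2,0,3,1], 51), (63, [6,3,6], [4,2,0,3,1,4,2,0,3,1,4,2,0,3,1,4,2,0,3,1,4,2,0,3,1], 51), (182, [4,6,3,5], [1,4,1,4,1,4], 51), (326, [1,7,3,5,3], [1,4,1,4,1,4], 51), (475, [3,7,7,3,3], [1,4,1,4,1,4], 51), (527, [4,5,3,5,7], [4,2,0,3,1,4,2,0,3,1,4,2,0,3,1,4,2,0,3,1,4,2,0,3,1], 51),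 (684, [6,6,3,7,3], [1,4,1,4,1,4], 51), (163, [4,4,6,6], [1,4,1,4,1,4], 51), (194, [4,7,3,5], [1,4,1,4,1,4], 51), (254, [1,3,3,7,7], [1,4,1,4,1,4], 51), (423, [3,6,3,7,4], [4,2,0,3,1,4,2,0,3,1,4,2,0,3,1,4,2,0,3,1,4,2,0,3,1], 51), (1778, [7,5,4,4,7,5], [4,2,0,3,1,4,2,0,3,1,4,2,0,3,1,4,2,0,3,1,4,2,0,3,1], 51), (501, [4,4,6,3,6], [1,4,1,4,1,4], 51), (597, [4,7,3,3,7], [1,4,1,4,1,4], 51), (687, [6,6,3,7,7], [1,4,1,4,1,4], 51), (693, [6,6,4,7,7], [4,2,0,3,1,4,2,0,3,1,4,2,0,3,1,4,2,0,3,1,4,2,0,3,1], 51), (734, [1,3,3,7,7,5], [1,4,1,4,1,4], 51), (827, [1,6,3,5,7,4], [1,4,1,4,1,4], 51), (969, [1,7,5,4,6,6], [1,4,1,4,1,4], 51), (1159, [3,6,3,7,5,4], [1,4,1,4,1,4], 51), (1403, [4,5,3,5,6,6], [1,4,1,4,1,4], 51), (1410, [4,5,3,6,6,5], [1,4,1,4,1,4], 51), (1497, [4,6,3,3,5,4],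 [1,4,1,4,1,4], 51), (1518, [4,6,5,3,5,3], [1,4,1,4,1,4], 51), (1736, [6,6,3,5,7,7], [1,4,1,4,1,4], 51), (2655, [3,6,3,5,7,4,4], [1,4,1,4,1,4], 51), (3733, [1,3,5,3,6,6,5,4], [1,4,1,4,1,4], 51), (1196, [3,6,6,3,6,6], [1,4,1,4,1,4], 51), (1322, [4,4,5,6,3,6], [4,2,0,3,1,4,2,0,3,1,4,2,0,3,1,4,2,0,3,1,4,2,0,3,1], 51), (1339, [4,4,6,3,6,5], [1,4,1,4,1,4], 51), (1432, [4,5,4,5,7,3], [4,2,0,3,1,4,2,0,3,1,4,2,0,3,1,4,2,0,3,1,4,2,0,3,1], 51), (1486, [4,5,7,5,7,3], [1,4,1,4,1,4], 51), (1704, [6,5,6,3,7,7], [1,4,1,4,1,4], 51), (1752, [6,6,4,5,7,7], [4,2,0,3,1,4,2,0,3,1,4,2,0,3,1,4,2,0,3,1,4,2,0,3,1], 51), (1789, [1,3,3,6,3,3,3], [1,4,1,4,1,4], 51), (1945, [1,3,7,4,6,5,3], [4,2,0,3,1,4,2,0,3,1,4,2,0,3,1,4,2,0,3,1,4,2,0,3,1], 51), (2034, [1,6,4,4,7,5,7], [1,4,1,4,1,4],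 51), (2042, [1,6,4,7,5,3,6], [1,4,1,4,1,4], 51), (2359, [1,7,7,5,4,7,3], [1,4,1,4,1,4], 51), (2384, [3,3,3,5,3,6,6], [4,2,0,3,1,4,2,0,3,1,4,2,0,3,1,4,2,0,3,1,4,2,0,3,1], 51), (2416, [3,3,3,5,7,7,4], [1,4,1,4,1,4], 51), (3068, [4,5,3,5,6,6,5], [1,4,1,4,1,4], 51), (3211, [4,5,7,5,7,3,5], [1,4,1,4,1,4], 51), (3361, [4,7,5,4,5,3,3], [1,4,1,4,1,4], 51), (3519, [6,5,6,3,5,7,7], [1,4,1,4,1,4], 51), (3560, [6,5,6,6,5,6,4], [1,4,1,4,1,4], 51), (4048, [1,7,3,5,3,3,5,4], [1,4,1,4,1,4], 51), (4770, [4,4,5,3,5,6,6,3], [1,4,1,4,1,4], 51), (4875, [4,4,7,5,4,5,3,3], [1,4,1,4,1,4], 51), (5266, [7,5,4,4,7,4,6,3], [1,4,1,4,1,4], 51), (2612, [3,3,7,4,5,7,7], [1,4,1,4,1,4], 51), (2717, [3,6,6,5,3,6,6], [1,4,1,4,1,4], 51), (3034, [4,4,7,7,5,7,7], [1,4,1,4,1,4], 51), (3112, [4,5,4,5,4,6,6],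 [4,2,0,3,1,4,2,0,3,1,4,2,0,3,1,4,2,0,3,1,4,2,0,3,1], 51), (3530, [6,5,6,3,7,7,5], [1,4,1,4,1,4], 51), (3593, [6,6,4,5,4,7,7], [4,2,0,3,1,4,2,0,3,1,4,2,0,3,1,4,2,0,3,1,4,2,0,3,1], 51), (3718, [1,3,5,3,5,6,5,6], [4,2,0,3,1,4,2,0,3,1,4,2,0,3,1,4,2,0,3,1,4,2,0,3,1], 51), (3993, [1,6,6,5,3,7,5,7], [1,4,1,4,1,4], 51), (5052, [4,6,3,6,6,5,7,7], [1,4,1,4,1,4], 51), (5414, [1,6,6,3,5,3,5,3,7], [1,4,1,4,1,4], 51), (5427, [1,6,6,5,3,3,7,3,6], [1,4,1,4,1,4], 51), (5519, [1,7,5,3,6,6,5,7,7], [1,4,1,4,1,4], 51), (4675, [3,7,4,4,5,7,5,6], [4,2,0,3,1,4,2,0,3,1,4,2,0,3,1,4,2,0,3,1,4,2,0,3,1], 51), (5611, [3,3,5,6,3,3,3,5,6], [1,4,1,4,1,4], 51), (5641, [3,3,7,5,4,5,4,5,7], [4,2,0,3,1,4,2,0,3,1,4,2,0,3,1,4,2,0,3,1,4,2,0,3,1], 51)]⟩) (by decide +kernel)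
    (by simp)

theorem ab2 : Br ev jw aS 5 aR aN [(0, [], [7,3,3,3,6]), (22, [7,7], [6,3,3,3,7]), (186, [4,6,5,4], [6,4,5,3,3,3,5,3,7]), (1091, [3,3,6,3,6,4], [7,4,6,4,4,6,3,3,3,7,3,3,7,3,6])] :=
  tm.br (L := []) (s := ⟨[0], [1,2,3], [], [], unp 0 (nat_lit 0x0), [(55, [4,6,3], [1,4,1,4,1,4], 51), (109, [1,7,5,3], [1,4,1,4,1,4], 51), (279, [1,4,5,3,6], [1,4,1,4,1,4], 51), (44, [3,7,3], [4,2,0,3,1,4,2,0,3,1,4,2,0,3,1,4,2,0,3,1,4,2,0,3,1], 51), (63, [6,3,6], [4,2,0,3,1,4,2,0,3,1,4,2,0,3,1,4,2,0,3,1,4,2,0,3,1], 51), (182, [4,6,3,5], [1,4,1,4,1,4], 51), (326, [1,7,3,5,3], [1,4,1,4,1,4], 51), (475, [3,7,7,3,3], [1,4,1,4,1,4], 51), (527, [4,5,3,5,7], [4,2,0,3,1,4,2,0,3,1,4,2,0,3,1,4,2,0,3,1,4,2,0,3,1], 51), (684, [6,6,3,7,3], [1,4,1,4,1,4], 51), (163, [4,4,6,6],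 [1,4,1,4,1,4], 51), (194, [4,7,3,5], [1,4,1,4,1,4], 51), (254, [1,3,3,7,7], [1,4,1,4,1,4], 51), (423, [3,6,3,7,4], [4,2,0,3,1,4,2,0,3,1,4,2,0,3,1,4,2,0,3,1,4,2,0,3,1], 51), (1778, [7,5,4,4,7,5], [4,2,0,3,1,4,2,0,3,1,4,2,0,3,1,4,2,0,3,1,4,2,0,3,1], 51), (501, [4,4,6,3,6], [1,4,1,4,1,4], 51), (597, [4,7,3,3,7], [1,4,1,4,1,4], 51), (687, [6,6,3,7,7], [1,4,1,4,1,4], 51), (693, [6,6,4,7,7], [4,2,0,3,1,4,2,0,3,1,4,2,0,3,1,4,2,0,3,1,4,2,0,3,1], 51), (734, [1,3,3,7,7,5], [1,4,1,4,1,4], 51), (827, [1,6,3,5,7,4], [1,4,1,4,1,4], 51), (969, [1,7,5,4,6,6], [1,4,1,4,1,4], 51), (1159, [3,6,3,7,5,4], [1,4,1,4,1,4], 51), (1403, [4,5,3,5,6,6], [1,4,1,4,1,4], 51), (1410, [4,5,3,6,6,5], [1,4,1,4,1,4], 51), (1497, [4,6,3,3,5,4], [1,4,1,4,1,4], 51), (1518, [4,6,5,3,5,3], [1,4,1,4,1,4],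 51), (1736, [6,6,3,5,7,7], [1,4,1,4,1,4], 51), (2655, [3,6,3,5,7,4,4], [1,4,1,4,1,4], 51), (3733, [1,3,5,3,6,6,5,4], [1,4,1,4,1,4], 51), (1196, [3,6,6,3,6,6], [1,4,1,4,1,4], 51), (1322, [4,4,5,6,3,6], [4,2,0,3,1,4,2,0,3,1,4,2,0,3,1,4,2,0,3,1,4,2,0,3,1], 51), (1339, [4,4,6,3,6,5], [1,4,1,4,1,4], 51), (1432, [4,5,4,5,7,3], [4,2,0,3,1,4,2,0,3,1,4,2,0,3,1,4,2,0,3,1,4,2,0,3,1], 51), (1486, [4,5,7,5,7,3], [1,4,1,4,1,4], 51), (1704, [6,5,6,3,7,7], [1,4,1,4,1,4], 51), (1752, [6,6,4,5,7,7], [4,2,0,3,1,4,2,0,3,1,4,2,0,3,1,4,2,0,3,1,4,2,0,3,1], 51), (1789, [1,3,3,6,3,3,3], [1,4,1,4,1,4], 51), (1945, [1,3,7,4,6,5,3], [4,2,0,3,1,4,2,0,3,1,4,2,0,3,1,4,2,0,3,1,4,2,0,3,1], 51), (2034, [1,6,4,4,7,5,7], [1,4,1,4,1,4], 51), (2042, [1,6,4,7,5,3,6], [1,4,1,4,1,4], 51), (2359,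 [1,7,7,5,4,7,3], [1,4,1,4,1,4], 51), (2384, [3,3,3,5,3,6,6], [4,2,0,3,1,4,2,0,3,1,4,2,0,3,1,4,2,0,3,1,4,2,0,3,1], 51), (2416, [3,3,3,5,7,7,4], [1,4,1,4,1,4], 51), (3068, [4,5,3,5,6,6,5], [1,4,1,4,1,4], 51), (3211, [4,5,7,5,7,3,5], [1,4,1,4,1,4], 51), (3361, [4,7,5,4,5,3,3], [1,4,1,4,1,4], 51), (3519, [6,5,6,3,5,7,7], [1,4,1,4,1,4], 51), (3560, [6,5,6,6,5,6,4], [1,4,1,4,1,4], 51), (4048, [1,7,3,5,3,3,5,4], [1,4,1,4,1,4], 51), (4770, [4,4,5,3,5,6,6,3], [1,4,1,4,1,4], 51), (4875, [4,4,7,5,4,5,3,3], [1,4,1,4,1,4], 51), (5266, [7,5,4,4,7,4,6,3], [1,4,1,4,1,4], 51), (2612, [3,3,7,4,5,7,7], [1,4,1,4,1,4], 51), (2717, [3,6,6,5,3,6,6], [1,4,1,4,1,4], 51), (3034, [4,4,7,7,5,7,7], [1,4,1,4,1,4], 51), (3112, [4,5,4,5,4,6,6], [4,2,0,3,1,4,2,0,3,1,4,2,0,3,1,4,2,0,3,1,4,2,0,3,1],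 51), (3530, [6,5,6,3,7,7,5], [1,4,1,4,1,4], 51), (3593, [6,6,4,5,4,7,7], [4,2,0,3,1,4,2,0,3,1,4,2,0,3,1,4,2,0,3,1,4,2,0,3,1], 51), (3718, [1,3,5,3,5,6,5,6], [4,2,0,3,1,4,2,0,3,1,4,2,0,3,1,4,2,0,3,1,4,2,0,3,1], 51), (3993, [1,6,6,5,3,7,5,7], [1,4,1,4,1,4], 51), (5052, [4,6,3,6,6,5,7,7], [1,4,1,4,1,4], 51), (5414, [1,6,6,3,5,3,5,3,7], [1,4,1,4,1,4], 51), (5427, [1,6,6,5,3,3,7,3,6], [1,4,1,4,1,4], 51), (5519, [1,7,5,3,6,6,5,7,7], [1,4,1,4,1,4], 51), (4675, [3,7,4,4,5,7,5,6], [4,2,0,3,1,4,2,0,3,1,4,2,0,3,1,4,2,0,3,1,4,2,0,3,1], 51), (5611, [3,3,5,6,3,3,3,5,6], [1,4,1,4,1,4], 51), (5641, [3,3,7,5,4,5,4,5,7], [4,2,0,3,1,4,2,0,3,1,4,2,0,3,1,4,2,0,3,1,4,2,0,3,1], 51)]⟩) (by decide +kernel)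
    (by simp)

theorem ab3 : Br ev jw aS 5 aR aN [(0, [], [7,3,3,3,6]), (22, [7,7], [6,3,3,3,7]), (186, [4,6,5,4], [6,4,5,3,3,3,5,3,7]), (1756, [6,6,4,7,7,5], [5,6,6,3,7,7,7,3,3,3,6,6,6,4,7,7,5])] :=
  tm.br (L := []) (s := ⟨[0], [1,2,3], [], [], unp 0 (nat_lit 0x0), [(55, [4,6,3], [1,4,1,4,1,4], 51), (109, [1,7,5,3], [1,4,1,4,1,4], 51), (279, [1,4,5,3,6], [1,4,1,4,1,4], 51), (44, [3,7,3], [4,2,0,3,1,4,2,0,3,1,4,2,0,3,1,4,2,0,3,1,4,2,0,3,1], 51), (63, [6,3,6], [4,2,0,3,1,4,2,0,3,1,4,2,0,3,1,4,2,0,3,1,4,2,0,3,1], 51), (182, [4,6,3,5], [1,4,1,4,1,4], 51), (326, [1,7,3,5,3], [1,4,1,4,1,4], 51), (475, [3,7,7,3,3], [1,4,1,4,1,4], 51), (527, [4,5,3,5,7], [4,2,0,3,1,4,2,0,3,1,4,2,0,3,1,4,2,0,3,1,4,2,0,3,1], 51), (684, [6,6,3,7,3], [1,4,1,4,1,4], 51), (163, [4,4,6,6],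 [1,4,1,4,1,4], 51), (194, [4,7,3,5], [1,4,1,4,1,4], 51), (254, [1,3,3,7,7], [1,4,1,4,1,4], 51), (423, [3,6,3,7,4], [4,2,0,3,1,4,2,0,3,1,4,2,0,3,1,4,2,0,3,1,4,2,0,3,1], 51), (1778, [7,5,4,4,7,5], [4,2,0,3,1,4,2,0,3,1,4,2,0,3,1,4,2,0,3,1,4,2,0,3,1], 51), (501, [4,4,6,3,6], [1,4,1,4,1,4], 51), (597, [4,7,3,3,7], [1,4,1,4,1,4], 51), (687, [6,6,3,7,7], [1,4,1,4,1,4], 51), (693, [6,6,4,7,7], [4,2,0,3,1,4,2,0,3,1,4,2,0,3,1,4,2,0,3,1,4,2,0,3,1], 51), (734, [1,3,3,7,7,5], [1,4,1,4,1,4], 51), (827, [1,6,3,5,7,4], [1,4,1,4,1,4], 51), (969, [1,7,5,4,6,6], [1,4,1,4,1,4], 51), (1159, [3,6,3,7,5,4], [1,4,1,4,1,4], 51), (1403, [4,5,3,5,6,6], [1,4,1,4,1,4], 51), (1410, [4,5,3,6,6,5], [1,4,1,4,1,4], 51), (1497, [4,6,3,3,5,4], [1,4,1,4,1,4], 51), (1518, [4,6,5,3,5,3], [1,4,1,4,1,4],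 51), (1736, [6,6,3,5,7,7], [1,4,1,4,1,4], 51), (2655, [3,6,3,5,7,4,4], [1,4,1,4,1,4], 51), (3733, [1,3,5,3,6,6,5,4], [1,4,1,4,1,4], 51), (1196, [3,6,6,3,6,6], [1,4,1,4,1,4], 51), (1322, [4,4,5,6,3,6], [4,2,0,3,1,4,2,0,3,1,4,2,0,3,1,4,2,0,3,1,4,2,0,3,1], 51), (1339, [4,4,6,3,6,5], [1,4,1,4,1,4], 51), (1432, [4,5,4,5,7,3], [4,2,0,3,1,4,2,0,3,1,4,2,0,3,1,4,2,0,3,1,4,2,0,3,1], 51), (1486, [4,5,7,5,7,3], [1,4,1,4,1,4], 51), (1704, [6,5,6,3,7,7], [1,4,1,4,1,4], 51), (1752, [6,6,4,5,7,7], [4,2,0,3,1,4,2,0,3,1,4,2,0,3,1,4,2,0,3,1,4,2,0,3,1], 51), (1789, [1,3,3,6,3,3,3], [1,4,1,4,1,4], 51), (1945, [1,3,7,4,6,5,3], [4,2,0,3,1,4,2,0,3,1,4,2,0,3,1,4,2,0,3,1,4,2,0,3,1], 51), (2034, [1,6,4,4,7,5,7], [1,4,1,4,1,4], 51), (2042, [1,6,4,7,5,3,6], [1,4,1,4,1,4], 51), (2359,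 [1,7,7,5,4,7,3], [1,4,1,4,1,4], 51), (2384, [3,3,3,5,3,6,6], [4,2,0,3,1,4,2,0,3,1,4,2,0,3,1,4,2,0,3,1,4,2,0,3,1], 51), (2416, [3,3,3,5,7,7,4], [1,4,1,4,1,4], 51), (3068, [4,5,3,5,6,6,5], [1,4,1,4,1,4], 51), (3211, [4,5,7,5,7,3,5], [1,4,1,4,1,4], 51), (3361, [4,7,5,4,5,3,3], [1,4,1,4,1,4], 51), (3519, [6,5,6,3,5,7,7], [1,4,1,4,1,4], 51), (3560, [6,5,6,6,5,6,4], [1,4,1,4,1,4], 51), (4048, [1,7,3,5,3,3,5,4], [1,4,1,4,1,4], 51), (4770, [4,4,5,3,5,6,6,3], [1,4,1,4,1,4], 51), (4875, [4,4,7,5,4,5,3,3], [1,4,1,4,1,4], 51), (5266, [7,5,4,4,7,4,6,3], [1,4,1,4,1,4], 51), (2612, [3,3,7,4,5,7,7], [1,4,1,4,1,4], 51), (2717, [3,6,6,5,3,6,6], [1,4,1,4,1,4], 51), (3034, [4,4,7,7,5,7,7], [1,4,1,4,1,4], 51), (3112, [4,5,4,5,4,6,6], [4,2,0,3,1,4,2,0,3,1,4,2,0,3,1,4,2,0,3,1,4,2,0,3,1],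 51), (3530, [6,5,6,3,7,7,5], [1,4,1,4,1,4], 51), (3593, [6,6,4,5,4,7,7], [4,2,0,3,1,4,2,0,3,1,4,2,0,3,1,4,2,0,3,1,4,2,0,3,1], 51), (3718, [1,3,5,3,5,6,5,6], [4,2,0,3,1,4,2,0,3,1,4,2,0,3,1,4,2,0,3,1,4,2,0,3,1], 51), (3993, [1,6,6,5,3,7,5,7], [1,4,1,4,1,4], 51), (5052, [4,6,3,6,6,5,7,7], [1,4,1,4,1,4], 51), (5414, [1,6,6,3,5,3,5,3,7], [1,4,1,4,1,4], 51), (5427, [1,6,6,5,3,3,7,3,6], [1,4,1,4,1,4], 51), (5519, [1,7,5,3,6,6,5,7,7], [1,4,1,4,1,4], 51), (4675, [3,7,4,4,5,7,5,6], [4,2,0,3,1,4,2,0,3,1,4,2,0,3,1,4,2,0,3,1,4,2,0,3,1], 51), (5611, [3,3,5,6,3,3,3,5,6], [1,4,1,4,1,4], 51), (5641, [3,3,7,5,4,5,4,5,7], [4,2,0,3,1,4,2,0,3,1,4,2,0,3,1,4,2,0,3,1,4,2,0,3,1], 51)]⟩) (by decide +kernel)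
    (by simp)

theorem ab4 : Br ev jw aS 5 aR aN [(0, [], [7,3,3,3,6]), (22, [7,7], [6,3,3,3,7]), (186, [4,6,5,4], [6,4,5,3,3,3,5,3,7])] :=
  tm.br (L := [(44, [3,7,3], [4,6,4,7,3,3,3,6,3,7,3]), (705, [7,5,4,4,7], [6,3,3,5,3,3,3,5,4,4,7]), (1091, [3,3,6,3,6,4], [7,4,6,4,4,6,3,3,3,7,3,3,7,3,6]), (1756, [6,6,4,7,7,5], [5,6,6,3,7,7,7,3,3,3,6,6,6,4,7,7,5])]) (s := ⟨[0], [1,2], [], [[6,6,5,7,7], [3,5,4,6,3,3,5,3,3,3,5,4,4,7]], unp 4 (nat_lit 0xe860000002c010006dc0000002c00), [(90, [1,4,5,6], [1,3,1,3,1,3], 51), (55, [4,6,3], [1,3,1,3,1,3], 51), (109, [1,7,5,3], [1,3,1,3,1,3], 51), (279, [1,4,5,3,6], [1,3,1,3,1,3], 51), (58, [4,7,3], [1,3,1,3,1,3], 51), (182, [4,6,3,5], [1,3,1,3,1,3], 51), (326, [1,7,3,5,3], [1,3,1,3,1,3], 51), (475, [3,7,7,3,3], [1,3,1,3,1,3],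 51), (684, [6,6,3,7,3], [1,3,1,3,1,3], 51), (163, [4,4,6,6], [1,3,1,3,1,3], 51), (194, [4,7,3,5], [1,3,1,3,1,3], 51), (254, [1,3,3,7,7], [1,3,1,3,1,3], 51), (354, [1,7,5,7,3], [1,3,1,3,1,3], 51), (501, [4,4,6,3,6], [1,3,1,3,1,3], 51), (597, [4,7,3,3,7], [1,3,1,3,1,3], 51), (687, [6,6,3,7,7], [1,3,1,3,1,3], 51), (734, [1,3,3,7,7,5], [1,3,1,3,1,3], 51), (827, [1,6,3,5,7,4], [1,3,1,3,1,3], 51), (969, [1,7,5,4,6,6], [1,3,1,3,1,3], 51), (1159, [3,6,3,7,5,4], [1,3,1,3,1,3], 51), (1403, [4,5,3,5,6,6], [1,3,1,3,1,3], 51), (1410, [4,5,3,6,6,5], [1,3,1,3,1,3], 51), (1497, [4,6,3,3,5,4], [1,3,1,3,1,3], 51), (1518, [4,6,5,3,5,3], [1,3,1,3,1,3], 51), (1537, [4,6,5,6,5,3], [1,3,1,3,1,3], 51), (1736, [6,6,3,5,7,7], [1,3,1,3,1,3], 51), (2655, [3,6,3,5,7,4,4], [1,3,1,3,1,3],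 51), (3733, [1,3,5,3,6,6,5,4], [1,3,1,3,1,3], 51), (1196, [3,6,6,3,6,6], [1,3,1,3,1,3], 51), (1339, [4,4,6,3,6,5], [1,3,1,3,1,3], 51), (1486, [4,5,7,5,7,3], [1,3,1,3,1,3], 51), (1704, [6,5,6,3,7,7], [1,3,1,3,1,3], 51), (1789, [1,3,3,6,3,3,3], [1,3,1,3,1,3], 51), (2034, [1,6,4,4,7,5,7], [1,3,1,3,1,3], 51), (2042, [1,6,4,7,5,3,6], [1,3,1,3,1,3], 51), (2359, [1,7,7,5,4,7,3], [1,3,1,3,1,3], 51), (2416, [3,3,3,5,7,7,4], [1,3,1,3,1,3], 51), (2878, [4,4,5,3,5,6,3], [1,3,1,3,1,3], 51), (3068, [4,5,3,5,6,6,5], [1,3,1,3,1,3], 51), (3211, [4,5,7,5,7,3,5], [1,3,1,3,1,3], 51), (3361, [4,7,5,4,5,3,3], [1,3,1,3,1,3], 51), (3519, [6,5,6,3,5,7,7], [1,3,1,3,1,3], 51), (3560, [6,5,6,6,5,6,4], [1,3,1,3,1,3], 51), (4047, [1,7,3,3,7,3,5,6], [1,3,1,3,1,3], 51), (4048, [1,7,3,5,3,3,5,4],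 [1,3,1,3,1,3], 51), (4162, [1,7,4,7,5,3,6,3], [1,3,1,3,1,3], 51), (4770, [4,4,5,3,5,6,6,3], [1,3,1,3,1,3], 51), (4875, [4,4,7,5,4,5,3,3], [1,3,1,3,1,3], 51), (5266, [7,5,4,4,7,4,6,3], [1,3,1,3,1,3], 51), (2612, [3,3,7,4,5,7,7], [1,3,1,3,1,3], 51), (2708, [3,6,6,3,6,6,5], [1,3,1,3,1,3], 51), (2717, [3,6,6,5,3,6,6], [1,3,1,3,1,3], 51), (3034, [4,4,7,7,5,7,7], [1,3,1,3,1,3], 51), (3530, [6,5,6,3,7,7,5], [1,3,1,3,1,3], 51), (3993, [1,6,6,5,3,7,5,7], [1,3,1,3,1,3], 51), (4641, [3,6,5,6,6,3,7,4], [1,3,1,3,1,3], 51), (5052, [4,6,3,6,6,5,7,7], [1,3,1,3,1,3], 51), (5059, [4,6,5,3,3,7,4,7], [1,3,1,3,1,3], 51), (5414, [1,6,6,3,5,3,5,3,7], [1,3,1,3,1,3], 51), (5427, [1,6,6,5,3,3,7,3,6], [1,3,1,3,1,3], 51), (5519, [1,7,5,3,6,6,5,7,7], [1,3,1,3,1,3], 51), (5611, [3,3,5,6,3,3,3,5,6],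 [1,3,1,3,1,3], 51), (423, [3,6,3,7,4], [2,3,2,3,2,3], 51), (1778, [7,5,4,4,7,5], [2,3,2,3,2,3], 51), (693, [6,6,4,7,7], [2,3,2,3,2,3], 51), (1322, [4,4,5,6,3,6], [2,3,2,3,2,3], 51), (1432, [4,5,4,5,7,3], [2,3,2,3,2,3], 51), (1752, [6,6,4,5,7,7], [2,3,2,3,2,3], 51), (1945, [1,3,7,4,6,5,3], [2,3,2,3,2,3], 51), (2384, [3,3,3,5,3,6,6], [2,3,2,3,2,3], 51), (3112, [4,5,4,5,4,6,6], [2,3,2,3,2,3], 51), (3593, [6,6,4,5,4,7,7], [2,3,2,3,2,3], 51), (4675, [3,7,4,4,5,7,5,6], [2,3,2,3,2,3], 51), (5641, [3,3,7,5,4,5,4,5,7], [2,3,2,3,2,3], 51)]⟩) (by decide +kernel)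
    (List.forall_mem_cons.mpr ⟨ab0, (List.forall_mem_cons.mpr ⟨ab1, (List.forall_mem_cons.mpr ⟨ab2, (List.forall_mem_cons.mpr ⟨ab3, (by simp)⟩)⟩)⟩)⟩)

theorem ab5 : Br ev jw aS 5 aR aN [(0, [], [7,3,3,3,6]), (22, [7,7], [6,3,3,3,7])] :=
  tm.br (L := [(186, [4,6,5,4], [6,4,5,3,3,3,5,3,7])]) (s := ⟨[0], [1], [], [[5], [6,3,3,3,7], [6,6,5,7,7], [7,7,5,6,6]], unp 23 (nat_lit 0x6dc030000d2030002b50000003f010000d200000572020004430000052a030006d8000002c1030005980000020f03000c8e000001a7030005720000002c0300002c0100020f02000e86000000ba030002c1000000ba010000ba00), [(90, [1,4,5,6], [1,2,1,2,1,2], 51), (55, [4,6,3], [1,2,1,2,1,2], 51), (109, [1,7,5,3], [1,2,1,2,1,2], 51), (279, [1,4,5,3,6], [1,2,1,2,1,2], 51), (58, [4,7,3], [1,2,1,2,1,2], 51), (182, [4,6,3,5], [1,2,1,2,1,2],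 51), (326, [1,7,3,5,3], [1,2,1,2,1,2], 51), (475, [3,7,7,3,3], [1,2,1,2,1,2], 51), (684, [6,6,3,7,3], [1,2,1,2,1,2], 51), (163, [4,4,6,6], [1,2,1,2,1,2], 51), (194, [4,7,3,5], [1,2,1,2,1,2], 51), (254, [1,3,3,7,7], [1,2,1,2,1,2], 51), (354, [1,7,5,7,3], [1,2,1,2,1,2], 51), (531, [4,5,3,6,6], [1,2,1,2,1,2], 51), (902, [1,7,3,5,3,5], [1,2,1,2,1,2], 51), (1277, [3,7,7,3,3,5], [1,2,1,2,1,2], 51), (501, [4,4,6,3,6], [1,2,1,2,1,2], 51), (597, [4,7,3,3,7], [1,2,1,2,1,2], 51), (687, [6,6,3,7,7], [1,2,1,2,1,2], 51), (734, [1,3,3,7,7,5], [1,2,1,2,1,2], 51), (827, [1,6,3,5,7,4], [1,2,1,2,1,2], 51), (969, [1,7,5,4,6,6], [1,2,1,2,1,2], 51), (980, [1,7,5,7,3,5], [1,2,1,2,1,2], 51), (1159, [3,6,3,7,5,4], [1,2,1,2,1,2], 51), (1403, [4,5,3,5,6,6], [1,2,1,2,1,2], 51), (1410,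 [4,5,3,6,6,5], [1,2,1,2,1,2], 51), (1497, [4,6,3,3,5,4], [1,2,1,2,1,2], 51), (1518, [4,6,5,3,5,3], [1,2,1,2,1,2], 51), (1537, [4,6,5,6,5,3], [1,2,1,2,1,2], 51), (1736, [6,6,3,5,7,7], [1,2,1,2,1,2], 51), (2655, [3,6,3,5,7,4,4], [1,2,1,2,1,2], 51), (3272, [4,6,5,4,7,4,6], [1,2,1,2,1,2], 51), (3733, [1,3,5,3,6,6,5,4], [1,2,1,2,1,2], 51), (1196, [3,6,6,3,6,6], [1,2,1,2,1,2], 51), (1339, [4,4,6,3,6,5], [1,2,1,2,1,2], 51), (1486, [4,5,7,5,7,3], [1,2,1,2,1,2], 51), (1704, [6,5,6,3,7,7], [1,2,1,2,1,2], 51), (1789, [1,3,3,6,3,3,3], [1,2,1,2,1,2], 51), (2034, [1,6,4,4,7,5,7], [1,2,1,2,1,2], 51), (2042, [1,6,4,7,5,3,6], [1,2,1,2,1,2], 51), (2356, [1,7,7,5,4,5,4], [1,2,1,2,1,2], 51), (2359, [1,7,7,5,4,7,3], [1,2,1,2,1,2], 51), (2416, [3,3,3,5,7,7,4], [1,2,1,2,1,2],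 51), (2878, [4,4,5,3,5,6,3], [1,2,1,2,1,2], 51), (3068, [4,5,3,5,6,6,5], [1,2,1,2,1,2], 51), (3211, [4,5,7,5,7,3,5], [1,2,1,2,1,2], 51), (3263, [4,6,5,3,5,3,5], [1,2,1,2,1,2], 51), (3361, [4,7,5,4,5,3,3], [1,2,1,2,1,2], 51), (3519, [6,5,6,3,5,7,7], [1,2,1,2,1,2], 51), (3560, [6,5,6,6,5,6,4], [1,2,1,2,1,2], 51), (4047, [1,7,3,3,7,3,5,6], [1,2,1,2,1,2], 51), (4048, [1,7,3,5,3,3,5,4], [1,2,1,2,1,2], 51), (4162, [1,7,4,7,5,3,6,3], [1,2,1,2,1,2], 51), (4653, [3,6,6,5,4,7,5,7], [1,2,1,2,1,2], 51), (4770, [4,4,5,3,5,6,6,3], [1,2,1,2,1,2], 51), (4875, [4,4,7,5,4,5,3,3], [1,2,1,2,1,2], 51), (5266, [7,5,4,4,7,4,6,3], [1,2,1,2,1,2], 51), (2612, [3,3,7,4,5,7,7], [1,2,1,2,1,2], 51), (2708, [3,6,6,3,6,6,5], [1,2,1,2,1,2], 51), (2717, [3,6,6,5,3,6,6], [1,2,1,2,1,2], 51),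 (3034, [4,4,7,7,5,7,7], [1,2,1,2,1,2], 51), (3530, [6,5,6,3,7,7,5], [1,2,1,2,1,2], 51), (3715, [1,3,5,3,5,6,3,7], [1,2,1,2,1,2], 51), (3993, [1,6,6,5,3,7,5,7], [1,2,1,2,1,2], 51), (4195, [1,7,5,4,5,6,3,6], [1,2,1,2,1,2], 51), (4641, [3,6,5,6,6,3,7,4], [1,2,1,2,1,2], 51), (5052, [4,6,3,6,6,5,7,7], [1,2,1,2,1,2], 51), (5059, [4,6,5,3,3,7,4,7], [1,2,1,2,1,2], 51), (5414, [1,6,6,3,5,3,5,3,7], [1,2,1,2,1,2], 51), (5427, [1,6,6,5,3,3,7,3,6], [1,2,1,2,1,2], 51), (5519, [1,7,5,3,6,6,5,7,7], [1,2,1,2,1,2], 51), (5611, [3,3,5,6,3,3,3,5,6], [1,2,1,2,1,2], 51)]⟩) (by decide +kernel)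
    (List.forall_mem_cons.mpr ⟨ab4, (by simp)⟩)

theorem ab6 : Br ev jw aS 5 aR aN [(0, [], [7,3,3,3,6]), (90, [1,4,5,6], [7,5,6,6,6,5,6])] :=
  tm.br (L := []) (s := ⟨[0], [1], [], [], unp 0 (nat_lit 0x0), [(22, [7,7], [1,2,1,2,1,2], 51), (20, [6,6], [1,2,1,2,1,2], 51), (55, [4,6,3], [1,2,1,2,1,2], 51), (186, [4,6,5,4], [1,2,1,2,1,2], 51), (44, [3,7,3], [1,2,1,2,1,2], 51), (63, [6,3,6], [1,2,1,2,1,2], 51), (326, [1,7,3,5,3], [1,2,1,2,1,2], 51), (475, [3,7,7,3,3], [1,2,1,2,1,2], 51), (527, [4,5,3,5,7], [1,2,1,2,1,2], 51), (684, [6,6,3,7,3], [1,2,1,2,1,2], 51), (163, [4,4,6,6], [1,2,1,2,1,2], 51), (194, [4,7,3,5], [1,2,1,2,1,2], 51), (210, [6,3,6,5], [1,2,1,2,1,2], 51), (423, [3,6,3,7,4], [1,2,1,2,1,2], 51), (531, [4,5,3,6,6], [1,2,1,2,1,2], 51), (1277,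 [3,7,7,3,3,5], [1,2,1,2,1,2], 51), (1778, [7,5,4,4,7,5], [1,2,1,2,1,2], 51), (501, [4,4,6,3,6], [1,2,1,2,1,2], 51), (597, [4,7,3,3,7], [1,2,1,2,1,2], 51), (687, [6,6,3,7,7], [1,2,1,2,1,2], 51), (693, [6,6,4,7,7], [1,2,1,2,1,2], 51), (734, [1,3,3,7,7,5], [1,2,1,2,1,2], 51), (827, [1,6,3,5,7,4], [1,2,1,2,1,2], 51), (969, [1,7,5,4,6,6], [1,2,1,2,1,2], 51), (980, [1,7,5,7,3,5], [1,2,1,2,1,2], 51), (1002, [1,7,7,5,4,4], [1,2,1,2,1,2], 51), (1159, [3,6,3,7,5,4], [1,2,1,2,1,2], 51), (1394, [4,5,3,3,7,3], [1,2,1,2,1,2], 51), (1403, [4,5,3,5,6,6], [1,2,1,2,1,2], 51), (1410, [4,5,3,6,6,5], [1,2,1,2,1,2], 51), (1497, [4,6,3,3,5,4], [1,2,1,2,1,2], 51), (1518, [4,6,5,3,5,3], [1,2,1,2,1,2], 51), (1736, [6,6,3,5,7,7], [1,2,1,2,1,2], 51), (2082, [1,6,6,5,3,3,5], [1,2,1,2,1,2],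 51), (2347, [1,7,7,4,6,6,4], [1,2,1,2,1,2], 51), (3272, [4,6,5,4,7,4,6], [1,2,1,2,1,2], 51), (1196, [3,6,6,3,6,6], [1,2,1,2,1,2], 51), (1322, [4,4,5,6,3,6], [1,2,1,2,1,2], 51), (1432, [4,5,4,5,7,3], [1,2,1,2,1,2], 51), (1486, [4,5,7,5,7,3], [1,2,1,2,1,2], 51), (1704, [6,5,6,3,7,7], [1,2,1,2,1,2], 51), (1752, [6,6,4,5,7,7], [1,2,1,2,1,2], 51), (1945, [1,3,7,4,6,5,3], [1,2,1,2,1,2], 51), (2034, [1,6,4,4,7,5,7], [1,2,1,2,1,2], 51), (2042, [1,6,4,7,5,3,6], [1,2,1,2,1,2], 51), (2043, [1,6,4,7,5,4,6], [1,2,1,2,1,2], 51), (2044, [1,6,4,7,5,4,7], [1,2,1,2,1,2], 51), (2275, [1,7,5,4,6,3,6], [1,2,1,2,1,2], 51), (2276, [1,7,5,4,6,3,7], [1,2,1,2,1,2], 51), (2356, [1,7,7,5,4,5,4], [1,2,1,2,1,2], 51), (2359, [1,7,7,5,4,7,3], [1,2,1,2,1,2], 51), (2384, [3,3,3,5,3,6,6],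 [1,2,1,2,1,2], 51), (2416, [3,3,3,5,7,7,4], [1,2,1,2,1,2], 51), (2844, [3,7,5,7,7,5,6], [1,2,1,2,1,2], 51), (3065, [4,5,3,5,6,3,7], [1,2,1,2,1,2], 51), (3068, [4,5,3,5,6,6,5], [1,2,1,2,1,2], 51), (3263, [4,6,5,3,5,3,5], [1,2,1,2,1,2], 51), (3361, [4,7,5,4,5,3,3], [1,2,1,2,1,2], 51), (3519, [6,5,6,3,5,7,7], [1,2,1,2,1,2], 51), (3560, [6,5,6,6,5,6,4], [1,2,1,2,1,2], 51), (4048, [1,7,3,5,3,3,5,4], [1,2,1,2,1,2], 51), (4653, [3,6,6,5,4,7,5,7], [1,2,1,2,1,2], 51), (4770, [4,4,5,3,5,6,6,3], [1,2,1,2,1,2], 51), (4875, [4,4,7,5,4,5,3,3], [1,2,1,2,1,2], 51), (5266, [7,5,4,4,7,4,6,3], [1,2,1,2,1,2], 51), (2612, [3,3,7,4,5,7,7], [1,2,1,2,1,2], 51), (2717, [3,6,6,5,3,6,6], [1,2,1,2,1,2], 51), (3034, [4,4,7,7,5,7,7], [1,2,1,2,1,2], 51), (3112, [4,5,4,5,4,6,6], [1,2,1,2,1,2],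 51), (3474, [6,4,7,5,4,5,3], [1,2,1,2,1,2], 51), (3593, [6,6,4,5,4,7,7], [1,2,1,2,1,2], 51), (3718, [1,3,5,3,5,6,5,6], [1,2,1,2,1,2], 51), (4195, [1,7,5,4,5,6,3,6], [1,2,1,2,1,2], 51), (4383, [3,3,5,3,5,3,5,3], [1,2,1,2,1,2], 51), (5052, [4,6,3,6,6,5,7,7], [1,2,1,2,1,2], 51), (5414, [1,6,6,3,5,3,5,3,7], [1,2,1,2,1,2], 51), (5427, [1,6,6,5,3,3,7,3,6], [1,2,1,2,1,2], 51), (4675, [3,7,4,4,5,7,5,6], [1,2,1,2,1,2], 51), (5611, [3,3,5,6,3,3,3,5,6], [1,2,1,2,1,2], 51), (5641, [3,3,7,5,4,5,4,5,7], [1,2,1,2,1,2], 51)]⟩) (by decide +kernel)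
    (by simp)

theorem ab7 : Br ev jw aS 5 aR aN [(0, [], [7,3,3,3,6])] :=
  tm.br (L := [(22, [7,7], [6,3,3,3,7]), (90, [1,4,5,6], [7,5,6,6,6,5,6])]) (s := ⟨[0], [], [0], [[3,5,4], [7,3,6], [6,3,3,3,7]], unp 108 (nat_lit 0xf990100158f00000937020015eb010013bc00000bda01000bda000007f2010006dc010006a8010002af000006fd010002b5010002b50000003f02000e09010002de010002de00000a9d01000a3400000a94010004ac010004ac00000487010001a7010001a70000002c0200111f01000bfc0000003f01000014010002130000057201000572000000d2010008e40000057b01000799010005ee010005ee00000b1c01000cbf0000003a020012a2010006f200000970010005ce00000dbf010006d800000c8b0100053b00000950010000370100003700000255010000c20000052a010000a30000003a010001f50100052a000000b601000c8b000006c801000dbf000002c1010000ba02001492010003ea010009340000122d0100093700000b3e010008220100122d00000e8301000ef7000015260100014601000146000007fc010003d400001063010003c900000162010008e3010010630000038601000369010003860000005a02000de80100059800000bf901000bf900000c28010007fa0000020f010007fb01000cc8000004fd010004fd000001db01000117000000ba0100005a010000160100001600),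 []⟩) (by decide +kernel)
    (List.forall_mem_cons.mpr ⟨ab5, (List.forall_mem_cons.mpr ⟨ab6, (by simp)⟩)⟩)

theorem arig : Rig ev jw aS 5 aR aN 5 :=
  ab7.rig (Rig.one tm (by decide +kernel))

def bS : List Std := [(0, [], [7,3,3,3,6]), (22, [7,7], [6,3,3,3,7]), (186, [4,6,5,4], [6,4,5,3,3,3,5,3,7]), (44, [3,7,3], [4,6,4,7,3,3,3,6,3,7,3]), (63, [6,3,6], [7,4,7,7,3,3,3,6,6,3,6]), (51, [4,5,3], [7,3,5,3,3,3,5,4,6])]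

def bR : List (List ℕ) := [[0,1,0,1], [1,2,1,2,1,2], [0,2,0,2], [1,3,1,3,1,3], [2,3,2,3,2,3], [0,3,0,3], [1,4,1,4,1,4], [4,2,0,3,1,4,2,0,3,1,4,2,0,3,1,4,2,0,3,1,4,2,0,3,1], [2,4,2,4,2,4], [0,4,0,4], [1,5,1,5], [4,5,4,5]]

def bN : List (List ℕ) := [[0,1], [1,2,1,2], [1,3,1,3], [2,3,2,3], [1,4,1,4], [2,4,2,4], [3,4,3,4], [0,5,0,5], [2,5,2,5], [3,5,3,5]]

theorem bhS : bS.all (stdChk img 8 434321399574757888 bs jw) = true := by decide +kernel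

theorem bb0 : Br ev jw bS 6 bR bN [(0, [], [7,3,3,3,6]), (22, [7,7], [6,3,3,3,7]), (186, [4,6,5,4], [6,4,5,3,3,3,5,3,7]), (44, [3,7,3], [4,6,4,7,3,3,3,6,3,7,3]), (63, [6,3,6], [7,4,7,7,3,3,3,6,6,3,6])] :=
  tm.br (L := [(51, [4,5,3], [7,3,5,3,3,3,5,4,6])]) (s := ⟨[1,4], [0,2,3], [], [[7,3,3,3,6]], unp 1 (nat_lit 0x3300), []⟩) (by decide +kernel)
    (List.forall_mem_cons.mpr ⟨Br.done (by decide +kernel), (by simp)⟩)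

theorem brig : Rig ev jw bS 6 bR bN 6 :=
  bb0.rig (arig.mono (by decide +kernel))

def gV : List (List ℕ) := [[0,2,1,2,1,4,2,1,0,3,4,0,2,1,4,1,0,4,2,1,3,4,0,1,4,1,2,4,2,1,2,4,0,2,4,1,3,2,4,1,2,0,5,0,3,2,4,1], [4,3,4,0,2,1,2,1,4,2,1,0,3,4,0,2,1,4,1,0,4,2,1,3,4,0,1,4,1,2,3,4,3,1,4,2,1,5,3,1,5,2,3,5,3,1,4], [0,2,1,0,4,0,1,2,3,1,3,4,3,0,5,3,1,5,2,3,5,3,1,4]]

end Cfsg.H6.HNR.R
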